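import Cfsg.Agent.J4Rep94.C14.Data

/-!
# Certificate data
-/

set_option autoImplicit false
set_option maxRecDepth 100000

namespace Cfsg.Agent.J4Rep94.C14

open Cfsg.Agent.CosetEnum

def fv0 : ℕ := 0x17d0000100001001db00002000bf000070017f0000100003001d900002000c00000a001810000100005001d700002000c100007001830000100007001d500002000c20000a001850000100009001d300002000c300007001870000100079001d100002000c40000900189000010007b001cf00002000c5000070018b000010007d001cd00002000c60000a0018d000010007f001cb00002000c700007001af0000100085001c900002000bd0000a0017b0000100087001c700002000be00007001ad0000100089001c5000020008a0000900112000010008b001c300002000890000700110000010008d001c100002000880000a0010e000010008f001be0000200087000070018f000010010c001bc00002000c800009001aa00001001b6001bb00002000b6000090016a0000100093001b800002000b50000700095000010016b001ab0010a001080010600104000ee000ec00058000560005400052000500004e0004c0004a000480004600044001a2000af000b5000b7000b9000bb000bd000bf001b500198001960019400192001900009a0009800096000240004b000080018e00001000900000100048000000019b00001000be001b200002000ce00007000bc000ba000b8000b6000b4000ae000ac00040001a00009f000a1000a3000a5000a7000a9000ab0019f00082001b00008700089000150019a00198001960019400192001900009a00098000960009400092000900008e0008c0008a0000f000450000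60008000001000840000100040000000017b001ad00112001100010e0010c0010a001080010600104000ee001a80005d0005f00061000630006500067000690006b000140018c0018a00188001860018400182001800017e0017c000760007400072000700006e0006c0000f000360000300112001100010e0010c0010a001080010600104000ee001a80005d0005f0000c0017a00178001760017400172001700016e0016c000b3001a4000ea000e8000e6001a60010200100000fe000fc000fa000f80006400062000600001700030000050010a001080010600104000ee001a8000060016a00168001660016400162001600015e0015c0015a00158001560015400152001500014e0014c0014a00148001460014400142001400013e0013c0013a00138001360013400132001300012e0012c0012a00128001260012400122001200011e0011c0011a001180011600114000f6000f4000f2000f00005c000310002e00004000ec000010005a000010002d00000000e7000e9000eb001a5000b2000b0000a2000a00009e001a100041000430004500047000490004b0004d0004f0005100053000140010200100000fe000fc000fa000f80006400062000600005e0005c0005a0005800056000540000f0002a00003000b2000b0000a2000a00009e001a1000410004300045000470000a000ea000e8000e6000e4000e2000e0000de000dc000da000d8000d6000d4000d2000d0000ce000cc000ca000c8000c6000c4000c2000c00004c0004a000480001900024000020004200001000ac0000100021000000003e000010009c000010001f0000000082000800007e0007c0007a0019c0000d0000f00011000130000a000aa000a8000a6000a4000a2000a00009e0009c0003c0003a00038000360003400032000300002e0002c0002a00028000260002400022000200001e0001c0001a0001800016000140001d0000a0000100078000010000a000010000500000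
theorem fok0 : sys.checkFacts 206 33 fv0 = true := by decide +kernel


end Cfsg.Agent.J4Rep94.C14
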